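import Groth.Prelude.Def_W4stkflatp2Cpct
import Mathlib.AlgebraicGeometry.Morphisms.Separated
import Mathlib.CategoryTheory.Localization.CalculusOfFractions

/-!
# The right calculus of fractions of compactifications
-/

set_option autoImplicit false
set_option linter.style.haveILetI false
universe u

open CategoryTheory CategoryTheory.Limits AlgebraicGeometry Cpct

namespace Groth.Agent.H8Props.CpctFrac

variable {S : Scheme.{u}}

theorem restr_ι {A B : Pair S} (f : A ⟶ B) : restr f ≫ B.U.ι = A.U.ι ≫ (Pair.Hom.bar f).left := by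
  simp [restr]

theorem restr_id (A : Pair S) : restr (𝟙 A) = 𝟙 _ := by
  rw [← cancel_mono A.U.ι, restr_ι]; simp

theorem restr_comp {A B C : Pair S} (f : A ⟶ B) (g : B ⟶ C) : restr (f ≫ g) = restr f ≫ restr g := by
  rw [← cancel_mono C.U.ι, restr_ι, Category.assoc, restr_ι, ← Category.assoc, restr_ι]
  simp

instance : (isoOpen S).IsMultiplicative where
  id_mem A := by
    show IsIso (restr (𝟙 A))
    rw [restr_id]; infer_instance
  comp_mem f g (hf : IsIso (restr f)) (hg : IsIso (restr g)) := by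
    show IsIso (restr (f ≫ g))
    rw [restr_comp]; infer_instance

theorem isProper_left (A B : Pair S) (f : A ⟶ B) : IsProper (Pair.Hom.bar f).left := by
  haveI := A.isProper
  haveI := B.isProper
  haveI : IsProper ((Pair.Hom.bar f).left ≫ B.bar.hom) := by rw [Over.w]; infer_instance
  exact IsProper.of_comp _ B.bar.hom

/-- The Ore condition. -/
theorem exists_square {X Y X' : Pair S} (f : Y ⟶ X) (u : X' ⟶ X) (hu : isoOpen S u) :
    ∃ (Y' : Pair S) (v : Y' ⟶ Y) (g : Y' ⟶ X'), isoOpen S v ∧ v ≫ f = g ≫ u := by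
  haveI : IsIso (restr u) := hu
  haveI := isProper_left X' X u
  haveI := Y.isProper
  let P := pullback (Pair.Hom.bar f).left (Pair.Hom.bar u).left
  let a : P ⟶ Y.bar.left := pullback.fst _ _
  let b : P ⟶ X'.bar.left := pullback.snd _ _
  haveI : IsProper a := MorphismProperty.pullback_fst _ _ ‹_›
  let O : P.Opens := a ⁻¹ᵁ Y.U ⊓ b ⁻¹ᵁ X'.U
  let a' : O.toScheme ⟶ Y.U.toScheme := a.resLE Y.U O inf_le_left
  let b' : O.toScheme ⟶ X'.U.toScheme := b.resLE X'.U O inf_le_right
  have ha' : a' ≫ Y.U.ι = O.ι ≫ a := Scheme.Hom.resLE_comp_ι _ _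
  have hb' : b' ≫ X'.U.ι = O.ι ≫ b := Scheme.Hom.resLE_comp_ι _ _
  let s₀ : Y.U.toScheme ⟶ P := pullback.lift Y.U.ι (restr f ≫ inv (restr u) ≫ X'.U.ι) (by
    rw [Category.assoc, Category.assoc, ← restr_ι u, IsIso.inv_hom_id_assoc, restr_ι])
  have hs₀ : Set.range s₀ ⊆ Set.range O.ι := by
    rw [Scheme.Opens.range_ι]
    rintro _ ⟨y, rfl⟩
    refine ⟨?_, ?_⟩
    · show a (s₀ y) ∈ Y.U
      rw [← Scheme.Hom.comp_apply, pullback.lift_fst]
      exact y.2
    · show b (s₀ y) ∈ X'.U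
      rw [← Scheme.Hom.comp_apply, pullback.lift_snd, ← Category.assoc, Scheme.Hom.comp_apply]
      exact ((restr f ≫ inv (restr u)) y).2
  let s := IsOpenImmersion.lift O.ι s₀ hs₀
  have hs : s ≫ O.ι = s₀ := IsOpenImmersion.lift_fac _ _ _
  have hsq : a' ≫ restr f = b' ≫ restr u := by
    rw [← cancel_mono X.U.ι, Category.assoc, Category.assoc, restr_ι, restr_ι, reassoc_of% ha',
      reassoc_of% hb', pullback.condition]
  haveI : IsIso a' := by
    refine ⟨s, ?_, ?_⟩
    · rw [← cancel_mono O.ι, Category.assoc, hs, Category.id_comp]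
      apply pullback.hom_ext
      · rw [Category.assoc, pullback.lift_fst, ha']
      · rw [Category.assoc, pullback.lift_snd, reassoc_of% hsq, IsIso.hom_inv_id_assoc, hb']
    · rw [← cancel_mono Y.U.ι, Category.assoc, ha', Category.id_comp, reassoc_of% hs, pullback.lift_fst]
  have hO : IsCompact (O : Set P) := by
    haveI : CompactSpace Y.U.toScheme := isCompact_iff_compactSpace.1 Y.isCompact
    haveI : CompactSpace O.toScheme := (Scheme.homeoOfIso (asIso a')).symm.compactSpace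
    exact isCompact_iff_compactSpace.2 ‹_›
  let Y' : Pair S := ⟨Over.mk (a ≫ Y.bar.hom), O, inferInstanceAs (IsProper (a ≫ Y.bar.hom)), hO⟩
  let v : Y' ⟶ Y := ⟨Over.homMk a rfl, fun x hx => hx.1⟩
  let g : Y' ⟶ X' := ⟨Over.homMk b (by
    show b ≫ X'.bar.hom = a ≫ Y.bar.hom
    rw [← Over.w (Pair.Hom.bar u), ← Over.w (Pair.Hom.bar f), ← Category.assoc, ← Category.assoc,
      pullback.condition]), fun x hx => hx.2⟩
  refine ⟨Y', v, g, ?_, ?_⟩
  · show IsIso (restr v)
    have : restr v = a' := by rw [← cancel_mono Y.U.ι, restr_ι, ha']; rfl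
    rw [this]; infer_instance
  · exact Pair.Hom.ext (Over.OverMorphism.ext pullback.condition)

/-- Morphisms with the same open part are equalised by a morphism with invertible open part. -/
theorem exists_equalizer_of_restr {X Y : Pair S} (f₁ f₂ : X ⟶ Y) (hr : restr f₁ = restr f₂) :
    ∃ (X' : Pair S) (t : X' ⟶ X), isoOpen S t ∧ t ≫ f₁ = t ≫ f₂ := by
  haveI := X.isProper
  haveI := Y.isProper
  let a₁ := (Pair.Hom.bar f₁).left
  let a₂ := (Pair.Hom.bar f₂).left
  let d := pullback.diagonal Y.bar.hom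
  let m : X.bar.left ⟶ pullback Y.bar.hom Y.bar.hom := pullback.lift a₁ a₂ (by simp [a₁, a₂])
  let e : pullback m d ⟶ X.bar.left := pullback.fst _ _
  haveI : IsClosedImmersion e := MorphismProperty.pullback_fst _ _ (inferInstance : IsClosedImmersion d)
  have heq : e ≫ a₁ = e ≫ a₂ := by
    have h1 : e ≫ m = pullback.snd m d ≫ d := pullback.condition
    have m1 : m ≫ pullback.fst Y.bar.hom Y.bar.hom = a₁ := pullback.lift_fst _ _ _
    have m2 : m ≫ pullback.snd Y.bar.hom Y.bar.hom = a₂ := pullback.lift_snd _ _ _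
    have d1 : d ≫ pullback.fst Y.bar.hom Y.bar.hom = 𝟙 _ := pullback.diagonal_fst _
    have d2 : d ≫ pullback.snd Y.bar.hom Y.bar.hom = 𝟙 _ := pullback.diagonal_snd _
    rw [← m1, ← m2, ← Category.assoc, ← Category.assoc, h1, Category.assoc, Category.assoc, d1, d2]
  let O := e ⁻¹ᵁ X.U
  have hXU : X.U.ι ≫ a₁ = X.U.ι ≫ a₂ := by rw [← restr_ι f₁, ← restr_ι f₂, hr]
  let s₀ : X.U.toScheme ⟶ pullback m d := pullback.lift X.U.ι (X.U.ι ≫ a₁) (by
    have h1 : d ≫ pullback.fst Y.bar.hom Y.bar.hom = 𝟙 _ := pullback.diagonal_fst _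
    have h2 : d ≫ pullback.snd Y.bar.hom Y.bar.hom = 𝟙 _ := pullback.diagonal_snd _
    have m1 : m ≫ pullback.fst Y.bar.hom Y.bar.hom = a₁ := pullback.lift_fst _ _ _
    have m2 : m ≫ pullback.snd Y.bar.hom Y.bar.hom = a₂ := pullback.lift_snd _ _ _
    apply pullback.hom_ext
    · rw [Category.assoc, Category.assoc, Category.assoc, m1, h1, Category.comp_id]
    · rw [Category.assoc, Category.assoc, Category.assoc, m2, h2, Category.comp_id, hXU])
  let e' : O.toScheme ⟶ X.U.toScheme := e.resLE X.U O le_rfl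
  have he' : e' ≫ X.U.ι = O.ι ≫ e := Scheme.Hom.resLE_comp_ι _ _
  have hs₀ : Set.range s₀ ⊆ Set.range O.ι := by
    rw [Scheme.Opens.range_ι]
    rintro _ ⟨y, rfl⟩
    show e (s₀ y) ∈ X.U
    rw [← Scheme.Hom.comp_apply, pullback.lift_fst]
    exact y.2
  let t₀ := IsOpenImmersion.lift O.ι s₀ hs₀
  have ht₀ : t₀ ≫ O.ι = s₀ := IsOpenImmersion.lift_fac _ _ _
  haveI : IsIso e' := by
    have h2 : t₀ ≫ e' = 𝟙 _ := by
      rw [← cancel_mono X.U.ι, Category.assoc, he', reassoc_of% ht₀, pullback.lift_fst, Category.id_comp]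
    refine ⟨t₀, ?_, h2⟩
    rw [← cancel_mono O.ι, ← cancel_mono e, Category.id_comp, Category.assoc, Category.assoc, reassoc_of% ht₀,
      pullback.lift_fst, he']
  have hO : IsCompact (O : Set ↥(pullback m d)) := by
    haveI : CompactSpace X.U.toScheme := isCompact_iff_compactSpace.1 X.isCompact
    haveI : CompactSpace O.toScheme := (Scheme.homeoOfIso (asIso e')).symm.compactSpace
    exact isCompact_iff_compactSpace.2 ‹_›
  let X' : Pair S := ⟨Over.mk (e ≫ X.bar.hom), O, inferInstanceAs (IsProper (e ≫ X.bar.hom)), hO⟩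
  let t : X' ⟶ X := ⟨Over.homMk e rfl, fun x hx => hx⟩
  refine ⟨X', t, ?_, Pair.Hom.ext (Over.OverMorphism.ext heq)⟩
  show IsIso (restr t)
  have : restr t = e' := by rw [← cancel_mono X.U.ι, restr_ι, he']; rfl
  rw [this]; infer_instance

/-- Equalisers. -/
theorem exists_equalizer {X Y Y' : Pair S} (f₁ f₂ : X ⟶ Y) (s : Y ⟶ Y') (hs : isoOpen S s)
    (h : f₁ ≫ s = f₂ ≫ s) : ∃ (X' : Pair S) (t : X' ⟶ X), isoOpen S t ∧ t ≫ f₁ = t ≫ f₂ := by
  haveI : IsIso (restr s) := hs
  exact exists_equalizer_of_restr f₁ f₂ (by rw [← cancel_mono (restr s), ← restr_comp, ← restr_comp, h])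

end Groth.Agent.H8Props.CpctFrac
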