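import Groth.Agent.H8Props.CpctFrac.Basic
import Mathlib.AlgebraicGeometry.Morphisms.Immersion
import Mathlib.CategoryTheory.Localization.Predicate

/-!
# Compactifyable schemes as a localization of the category of compactifications
-/

set_option autoImplicit false
set_option linter.style.haveILetI false
universe u

open CategoryTheory CategoryTheory.Limits AlgebraicGeometry Cpct

namespace Groth.Agent.H8Props.CpctFrac

variable {S : Scheme.{u}} [CompactSpace S] [QuasiSeparatedSpace S]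

instance : (isoOpen S).HasRightCalculusOfFractions where
  exists_rightFraction X Y φ := by
    obtain ⟨Y', v, g, hv, e⟩ := exists_square φ.f φ.s φ.hs
    exact ⟨⟨v, hv, g⟩, e⟩
  ext X Y Y' f₁ f₂ s hs h := by
    obtain ⟨X', t, ht, e⟩ := exists_equalizer f₁ f₂ s hs h
    exact ⟨X', t, ht, e⟩

theorem isInvertedBy : (isoOpen S).IsInvertedBy (openFunctor S) := fun A B f hf => by
  haveI : IsIso (restr f) := hf
  haveI : IsIso ((Over.forget S).map (openOver.map f)) := hf
  haveI : IsIso (openOver.map f) := isIso_of_reflects_iso _ (Over.forget S)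
  haveI : IsIso ((ObjectProperty.ι (IsCompactifyable S)).map ((openFunctor S).map f)) := ‹IsIso (openOver.map f)›
  exact isIso_of_reflects_iso _ (ObjectProperty.ι (IsCompactifyable S))

/-- The graph construction. -/
theorem exists_fraction {A B : Pair S} (u : openOver.obj A ⟶ openOver.obj B) :
    ∃ (Z : Pair S) (v : Z ⟶ A) (g : Z ⟶ B), isoOpen S v ∧ openOver.map v ≫ u = openOver.map g := by
  haveI := A.isProper
  haveI := B.isProper
  haveI : QuasiSeparatedSpace A.bar.left := quasiSeparatedSpace_of_quasiSeparated A.bar.hom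
  haveI : CompactSpace A.U.toScheme := isCompact_iff_compactSpace.1 A.isCompact
  let ul : A.U.toScheme ⟶ B.U.toScheme := u.left
  have hu : ul ≫ B.U.ι ≫ B.bar.hom = A.U.ι ≫ A.bar.hom := Over.w u
  let P := pullback A.bar.hom B.bar.hom
  let Γg : A.U.toScheme ⟶ P := pullback.lift A.U.ι (ul ≫ B.U.ι) (by rw [Category.assoc, hu])
  have hΓ1 : Γg ≫ pullback.fst _ _ = A.U.ι := pullback.lift_fst _ _ _
  have hΓ2 : Γg ≫ pullback.snd _ _ = ul ≫ B.U.ι := pullback.lift_snd _ _ _
  haveI : IsImmersion (Γg ≫ pullback.fst A.bar.hom B.bar.hom) := by rw [hΓ1]; infer_instance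
  haveI : IsImmersion Γg := IsImmersion.of_comp Γg (pullback.fst A.bar.hom B.bar.hom)
  haveI : IsProper (pullback.fst A.bar.hom B.bar.hom) := MorphismProperty.pullback_fst _ _ ‹_›
  haveI : QuasiCompact (Γg ≫ pullback.fst A.bar.hom B.bar.hom) := by
    rw [hΓ1]; exact quasiCompact_of_compactSpace A.U.ι
  haveI : QuasiCompact Γg := QuasiCompact.of_comp Γg (pullback.fst A.bar.hom B.bar.hom)
  let Zb : Over S := Over.mk (Γg.imageι ≫ pullback.fst _ _ ≫ A.bar.hom)
  have hZp : IsProper Zb.hom := inferInstanceAs (IsProper (Γg.imageι ≫ pullback.fst A.bar.hom B.bar.hom ≫ A.bar.hom))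
  let O : Γg.image.Opens := Γg.toImage.opensRange
  have hO : IsCompact (O : Set Γg.image) := by
    show IsCompact (Set.range Γg.toImage)
    exact isCompact_range Γg.toImage.continuous
  let Z : Pair S := ⟨Zb, O, hZp, hO⟩
  have hmemA : ∀ x ∈ O, (Γg.imageι ≫ pullback.fst A.bar.hom B.bar.hom) x ∈ A.U := by
    rintro _ ⟨a, rfl⟩
    rw [← Scheme.Hom.comp_apply, ← Category.assoc, Γg.toImage_imageι, hΓ1]
    exact a.2
  have hmemB : ∀ x ∈ O, (Γg.imageι ≫ pullback.snd A.bar.hom B.bar.hom) x ∈ B.U := by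
    rintro _ ⟨a, rfl⟩
    rw [← Scheme.Hom.comp_apply, ← Category.assoc, Γg.toImage_imageι, hΓ2, Scheme.Hom.comp_apply]
    exact (ul a).2
  let v : Z ⟶ A := ⟨Over.homMk (Γg.imageι ≫ pullback.fst A.bar.hom B.bar.hom) (Category.assoc _ _ _), hmemA⟩
  let g : Z ⟶ B := ⟨Over.homMk (Γg.imageι ≫ pullback.snd A.bar.hom B.bar.hom) (by
    show (Γg.imageι ≫ pullback.snd A.bar.hom B.bar.hom) ≫ B.bar.hom = Γg.imageι ≫ pullback.fst A.bar.hom B.bar.hom ≫ A.bar.hom
    rw [Category.assoc, pullback.condition]), hmemB⟩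
  let e : A.U.toScheme ⟶ O.toScheme := Γg.toImage.isoOpensRange.hom
  have he : e ≫ O.ι = Γg.toImage := Γg.toImage.isoOpensRange_hom_ι
  have hev : e ≫ restr v = 𝟙 _ := by
    rw [← cancel_mono A.U.ι, Category.assoc, restr_ι]
    show e ≫ O.ι ≫ Γg.imageι ≫ pullback.fst _ _ = _
    rw [reassoc_of% he, Γg.toImage_imageι_assoc, hΓ1, Category.id_comp]
  have heg : e ≫ restr g = ul := by
    rw [← cancel_mono B.U.ι, Category.assoc, restr_ι]
    show e ≫ O.ι ≫ Γg.imageι ≫ pullback.snd _ _ = _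
    rw [reassoc_of% he, Γg.toImage_imageι_assoc, hΓ2]
  haveI : IsIso e := inferInstanceAs (IsIso Γg.toImage.isoOpensRange.hom)
  refine ⟨Z, v, g, ?_, ?_⟩
  · show IsIso (restr v)
    haveI : IsIso (e ≫ restr v) := by rw [hev]; infer_instance
    exact IsIso.of_isIso_comp_left e (restr v)
  · refine Over.OverMorphism.ext ?_
    show restr v ≫ ul = restr g
    rw [← cancel_epi e, reassoc_of% hev, heg]

theorem isLocalization : (openFunctor S).IsLocalization (isoOpen S) := by
  let W := isoOpen S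
  let G := Localization.Construction.lift (openFunctor S) isInvertedBy
  have hfac : W.Q ⋙ G = openFunctor S := Localization.Construction.fac _ _
  have hQ : ∀ (X : W.Localization), ∃ A : Pair S, W.Q.obj A = X := fun X =>
    ⟨(Localization.Construction.objEquiv W).symm X, (Localization.Construction.objEquiv W).apply_symm_apply X⟩
  have hGQ : ∀ {A B : Pair S} (f : A ⟶ B), G.map (W.Q.map f) = (openFunctor S).map f := fun f => by
    refine (Functor.congr_hom hfac f).trans ?_
    exact (Category.id_comp _).trans (Category.comp_id _)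
  haveI : G.EssSurj := ⟨fun Y => by
    obtain ⟨A, ⟨e⟩⟩ := Y.2
    exact ⟨W.Q.obj A, ⟨(ObjectProperty.isoMk _ e : (openFunctor S).obj A ≅ Y)⟩⟩⟩
  haveI : G.Faithful := ⟨fun {X Y} p q h => by
    obtain ⟨A, rfl⟩ := hQ X
    obtain ⟨B, rfl⟩ := hQ Y
    obtain ⟨φ, rfl⟩ := Localization.exists_rightFraction W.Q W p
    obtain ⟨ψ, rfl⟩ := Localization.exists_rightFraction W.Q W q
    obtain ⟨Z, v, w, hv, hvw⟩ := exists_square φ.s ψ.s ψ.hs
    have hmul : W (v ≫ φ.s) := W.comp_mem _ _ hv φ.hs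
    have hp := φ.map_s_comp_map W.Q (Localization.inverts W.Q W)
    have hq := ψ.map_s_comp_map W.Q (Localization.inverts W.Q W)
    have hr : restr (v ≫ φ.f) = restr (w ≫ ψ.f) := by
      have h1 : G.map (W.Q.map (v ≫ φ.f)) = G.map (W.Q.map (w ≫ ψ.f)) := by
        rw [W.Q.map_comp, W.Q.map_comp, ← hp, ← hq, ← Category.assoc, ← Category.assoc, ← W.Q.map_comp,
          ← W.Q.map_comp, hvw, G.map_comp, h, ← G.map_comp]
      rw [hGQ, hGQ] at h1
      exact congrArg (fun k => k.hom.left) h1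
    obtain ⟨Z', t, ht, hte⟩ := exists_equalizer_of_restr _ _ hr
    have hQ' : W.Q.map (v ≫ φ.f) = W.Q.map (w ≫ ψ.f) :=
      (W.map_eq_iff_precomp W.Q _ _).2 ⟨Z', t, ht, hte⟩
    haveI : IsIso (W.Q.map (v ≫ φ.s)) := Localization.inverts W.Q W _ hmul
    rw [← cancel_epi (W.Q.map (v ≫ φ.s))]
    calc W.Q.map (v ≫ φ.s) ≫ φ.map W.Q (Localization.inverts W.Q W)
        = W.Q.map (v ≫ φ.f) := by rw [W.Q.map_comp, Category.assoc, hp, ← W.Q.map_comp]
      _ = W.Q.map (w ≫ ψ.f) := hQ'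
      _ = W.Q.map (w ≫ ψ.s) ≫ ψ.map W.Q (Localization.inverts W.Q W) := by
          rw [W.Q.map_comp, W.Q.map_comp, Category.assoc, hq]
      _ = W.Q.map (v ≫ φ.s) ≫ ψ.map W.Q (Localization.inverts W.Q W) := by rw [hvw]⟩
  haveI : G.Full := ⟨fun {X Y} u => by
    obtain ⟨A, rfl⟩ := hQ X
    obtain ⟨B, rfl⟩ := hQ Y
    let u₀ : openOver.obj A ⟶ openOver.obj B := u.hom
    obtain ⟨Z, v, g, hv, hvg⟩ := exists_fraction u₀
    haveI : IsIso (W.Q.map v) := Localization.inverts W.Q W v hv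
    refine ⟨inv (W.Q.map v) ≫ W.Q.map g, ?_⟩
    rw [G.map_comp, Functor.map_inv, IsIso.inv_comp_eq, hGQ, hGQ]
    exact ObjectProperty.hom_ext _ hvg.symm⟩
  haveI : G.IsEquivalence := {}
  exact ⟨isInvertedBy, this⟩

end Groth.Agent.H8Props.CpctFrac
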